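import Mathlib.Topology.Sheaves.Functors
import Mathlib.Topology.Sheaves.Skyscraper
import Mathlib.Topology.Sheaves.SheafCondition.UniqueGluing
import Mathlib.Topology.Sheaves.Over
import Mathlib.CategoryTheory.Adjunction.Triple
import Mathlib.CategoryTheory.Adjunction.FullyFaithful

/-! Sheaves of sets on embedded subspaces. -/

universe u
open TopologicalSpace Opposite CategoryTheory Topology

namespace Groth.Agent.ShOnZH28

variable {Z X : TopCat.{u}} {i : Z ⟶ X}

theorem pushforward_faithful (hi : IsInducing i) : (TopCat.Sheaf.pushforward (Type u) i).Faithful where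
  map_injective {F F'} a b h := by
    apply ObjectProperty.hom_ext
    ext W
    induction W with | op W => ?_
    have e : ∀ V : Opens X, a.1.app (op ((Opens.map i).obj V)) = b.1.app (op ((Opens.map i).obj V)) := fun V =>
      NatTrans.congr_app (congrArg InducedCategory.Hom.hom h) (op V)
    have := e (hi.functor.obj W)
    rw [Topology.IsInducing.functor_obj, hi.map_functorObj] at this
    rw [this]

theorem map_map_thin {T : TopCat.{u}} (P : (Opens T)ᵒᵖ ⥤ Type u) {A B B' C : (Opens T)ᵒᵖ}
    (f : A ⟶ B) (g : B ⟶ C) (f' : A ⟶ B') (g' : B' ⟶ C) (s : P.obj A) :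
    P.map g (P.map f s) = P.map g' (P.map f' s) := by
  rw [← CategoryTheory.comp_apply, ← CategoryTheory.comp_apply, ← P.map_comp, ← P.map_comp,
    Subsingleton.elim (f ≫ g) (f' ≫ g')]

theorem pushforward_full (hi : IsInducing i) : (TopCat.Sheaf.pushforward (Type u) i).Full where
  map_surjective {F F'} ψ := by
    let e : ∀ W : Opens Z, W = (Opens.map i).obj (hi.functorObj W) := fun W => (hi.map_functorObj W).symm
    have hnat : ∀ {A B : Opens X} (h : B ≤ A) (t : F.1.obj (op ((Opens.map i).obj A))),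
        ψ.1.app (op B) (F.1.map ((Opens.map i).map (homOfLE h)).op t) =
          F'.1.map ((Opens.map i).map (homOfLE h)).op (ψ.1.app (op A) t) := fun h t =>
      CategoryTheory.congr_fun (ψ.1.naturality (homOfLE h).op) t
    let φ : F.1 ⟶ F'.1 :=
      { app := fun W => F.1.map (eqToHom (congrArg op (e W.unop))) ≫ ψ.1.app (op (hi.functorObj W.unop)) ≫
          F'.1.map (eqToHom (congrArg op (e W.unop).symm))
        naturality := fun W₁ W₂ g => by
          ext s
          have hle : hi.functorObj W₂.unop ≤ hi.functorObj W₁.unop := hi.opensGI.gc.monotone_u g.unop.le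
          change F'.1.map _ (ψ.1.app _ (F.1.map _ (F.1.map g s))) = F'.1.map g (F'.1.map _ (ψ.1.app _ (F.1.map _ s)))
          refine (congrArg (fun t => F'.1.map _ (ψ.1.app _ t)) (map_map_thin F.1 g _ (eqToHom (congrArg op (e W₁.unop)))
            ((Opens.map i).map (homOfLE hle)).op s)).trans ?_
          refine (congrArg (fun t => F'.1.map _ t) (hnat hle _)).trans ?_
          exact map_map_thin F'.1 _ _ _ _ _ }
    refine ⟨⟨φ⟩, ?_⟩
    apply ObjectProperty.hom_ext
    refine NatTrans.ext (funext fun V => ?_)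
    induction V with | op V => ?_
    ext s
    change F'.1.map _ (ψ.1.app _ (F.1.map _ s)) = ψ.1.app (op V) s
    have hle : V ≤ hi.functorObj ((Opens.map i).obj V) := hi.le_functorObj_iff.2 le_rfl
    have := (hnat hle (F.1.map (eqToHom (congrArg op (e ((Opens.map i).obj V)))) s)).symm
    refine (congrArg (fun f => F'.1.map f _) (Subsingleton.elim _ _)).trans (this.trans (congrArg (ψ.1.app (op V)) ?_))
    refine (CategoryTheory.congr_fun (F.1.map_comp _ _) s).symm.trans ?_
    exact (congrArg (fun f => F.1.map f s) (Subsingleton.elim _ (𝟙 _))).trans (CategoryTheory.congr_fun (F.1.map_id _) s)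

theorem isIso_counit (hi : IsInducing i) (F : Z.Sheaf (Type u)) :
    IsIso ((TopCat.Sheaf.pullbackPushforwardAdjunction (Type u) i).counit.app F) := by
  have := pushforward_full hi
  have := pushforward_faithful hi
  infer_instance

variable (G : X.Sheaf (Type u))

theorem subsingleton_sections (U : Opens X) (h : ∀ x ∈ U, Subsingleton (G.presheaf.stalk x)) :
    Subsingleton (G.presheaf.obj (op U)) :=
  ⟨fun s t => TopCat.Presheaf.section_ext G U s t fun x hx => (h x hx).elim _ _⟩

theorem exists_section (U : Opens X) (h : ∀ x ∈ U, Nonempty (Unique (G.presheaf.stalk x))) :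
    ∃ _ : G.presheaf.obj (op U), True := by
  have h1 : ∀ x : U, ∃ (V : Opens X) (_ : x.1 ∈ V) (_ : G.presheaf.obj (op V)), V ≤ U := fun x => by
    obtain ⟨u⟩ := h x.1 x.2
    obtain ⟨V, hxV, s, -⟩ := G.presheaf.exists_germ_eq u.default
    exact ⟨V ⊓ U, ⟨hxV, x.2⟩, G.presheaf.map (homOfLE inf_le_left).op s, inf_le_right⟩
  choose V hxV s hV using h1
  obtain ⟨t, -⟩ := G.existsUnique_gluing' V U (fun x => homOfLE (hV x))
    (fun x hx => Opens.mem_iSup.2 ⟨⟨x, hx⟩, hxV ⟨x, hx⟩⟩) s fun x y =>
      (subsingleton_sections G (V x ⊓ V y) fun z hz => let ⟨u⟩ := h z (hV x hz.1); u.instSubsingleton).elim _ _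
  exact ⟨t, trivial⟩

theorem unique_stalk_pushforward (hi : IsClosedEmbedding i) (F : Z.Sheaf (Type u)) (x : X)
    (hx : x ∉ Set.range i) : Nonempty (Unique (((TopCat.Sheaf.pushforward (Type u) i).obj F).presheaf.stalk x)) := by
  let P := ((TopCat.Sheaf.pushforward (Type u) i).obj F).presheaf
  let U : Opens X := ⟨(Set.range i)ᶜ, hi.isClosed_range.isOpen_compl⟩
  have hU : ∀ V : Opens X, V ≤ U → ∀ s t : P.obj (op V), s = t := fun V hV s t =>
    F.eq_of_locally_eq' (fun e : PEmpty.{u+1} => e.elim) _ (fun e => e.elim)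
      (fun z hz => absurd (⟨z, rfl⟩ : i z ∈ Set.range i) (hV hz)) s t fun e => e.elim
  obtain ⟨s₀, -⟩ := F.existsUnique_gluing' (fun e : PEmpty.{u+1} => e.elim) ((Opens.map i).obj U) (fun e => e.elim)
      (fun z (hz : i z ∈ U) => absurd (⟨z, rfl⟩ : i z ∈ Set.range i) hz) (fun e => e.elim) fun e => e.elim
  refine ⟨⟨⟨P.germ U x hx s₀⟩, fun g => ?_⟩⟩
  obtain ⟨V, hxV, s, rfl⟩ := P.exists_germ_eq g
  exact P.germ_ext (V ⊓ U) ⟨hxV, hx⟩ (homOfLE inf_le_left) (homOfLE inf_le_right) (hU _ inf_le_right _ _)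

theorem bijective_res (hi : IsClosedEmbedding i)
    (hG : ∀ x : X, x ∉ Set.range i → Nonempty (Unique (G.presheaf.stalk x)))
    {V V' : Opens X} (h : V ≤ V') (he : (Opens.map i).obj V' ≤ (Opens.map i).obj V) :
    Function.Bijective (G.presheaf.map (homOfLE h).op) := by
  constructor
  · intro s t hst
    refine TopCat.Presheaf.section_ext G V' s t fun x hx => ?_
    by_cases hxr : x ∈ Set.range i
    · obtain ⟨z, rfl⟩ := hxr
      exact G.presheaf.germ_ext V (he hx) (homOfLE h) (homOfLE h) hst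
    · obtain ⟨u⟩ := hG x hxr
      exact u.instSubsingleton.elim _ _
  · intro s
    let U : Opens X := ⟨(Set.range i)ᶜ, hi.isClosed_range.isOpen_compl⟩ ⊓ V'
    obtain ⟨s', -⟩ := exists_section G U fun x hx => hG x hx.1
    let W : ULift.{u} Bool → Opens X := fun b => bif b.down then V else U
    let sf : ∀ b, G.presheaf.obj (op (W b)) := fun b => match b with
      | ⟨true⟩ => s
      | ⟨false⟩ => s'
    have hW : ∀ b, W b ≤ V' := by rintro ⟨_ | _⟩; exacts [inf_le_right, h]
    obtain ⟨t, ht, -⟩ := G.existsUnique_gluing' W V' (fun b => homOfLE (hW b)) (fun x hx => by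
        by_cases hxr : x ∈ Set.range i
        · obtain ⟨z, rfl⟩ := hxr
          exact Opens.mem_iSup.2 ⟨⟨true⟩, he hx⟩
        · exact Opens.mem_iSup.2 ⟨⟨false⟩, hxr, hx⟩) sf (by
      rintro ⟨b⟩ ⟨b'⟩
      have hs : ∀ {O : Opens X}, O ≤ U → Subsingleton (G.presheaf.obj (op O)) := fun hO =>
        subsingleton_sections G _ fun x hx => let ⟨u⟩ := hG x (hO hx).1; u.instSubsingleton
      cases b <;> cases b'
      · exact (hs inf_le_left).elim _ _
      · exact (hs inf_le_left).elim _ _
      · exact (hs inf_le_right).elim _ _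
      · exact congrArg (fun f => G.presheaf.map f s) (Subsingleton.elim _ _))
    exact ⟨t, ht ⟨true⟩⟩

theorem essImage_pushforward (hi : IsClosedEmbedding i)
    (hG : ∀ x : X, x ∉ Set.range i → Nonempty (Unique (G.presheaf.stalk x))) :
    (TopCat.Sheaf.pushforward (Type u) i).essImage G := by
  have hI := hi.isInducing
  let Φ := hI.functor
  have rr : ∀ {A B C : Opens X} (h : B ≤ A) (h' : C ≤ B) (t : G.presheaf.obj (op A)),
      G.presheaf.map (homOfLE h').op (G.presheaf.map (homOfLE h).op t) = G.presheaf.map (homOfLE (h'.trans h)).op t :=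
    fun h h' t => (CategoryTheory.congr_fun (G.presheaf.map_comp (homOfLE h).op (homOfLE h').op) t).symm
  have hP : TopCat.Presheaf.IsSheaf (Φ.op ⋙ G.presheaf : TopCat.Presheaf (Type u) Z) := by
    rw [TopCat.Presheaf.isSheaf_iff_isSheafUniqueGluing_types]
    intro ι W (sf : ∀ k, G.presheaf.obj (op (hI.functorObj (W k)))) hsf
    have hle : ∀ k, hI.functorObj (W k) ≤ hI.functorObj (iSup W) := fun k => (hI.opensGI.gc.monotone_u (le_iSup W k))
    have hle' : ⨆ k, hI.functorObj (W k) ≤ hI.functorObj (iSup W) := iSup_le hle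
    have hb := bijective_res G hi hG hle' (by
      rw [hI.map_functorObj]
      exact iSup_le fun k z hz => Opens.mem_iSup.2 ⟨k, (hI.mem_functorObj_iff (W k)).2 hz⟩)
    obtain ⟨t, ht, htu⟩ := G.existsUnique_gluing' (fun k => hI.functorObj (W k)) (⨆ k, hI.functorObj (W k))
      (fun k => homOfLE (le_iSup (fun k => hI.functorObj (W k)) k)) le_rfl sf fun k l => by
        have e := congrArg (G.presheaf.map (homOfLE (hI.opensGI.gc.u_inf.ge :
          hI.functorObj (W k) ⊓ hI.functorObj (W l) ≤ hI.functorObj (W k ⊓ W l))).op) (hsf k l)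
        refine Eq.trans ?_ (e.trans ?_)
        · exact (rr (hI.opensGI.gc.monotone_u (inf_le_left : W k ⊓ W l ≤ W k)) _ (sf k)).symm
        · exact rr (hI.opensGI.gc.monotone_u (inf_le_right : W k ⊓ W l ≤ W l)) _ (sf l)
    obtain ⟨t', rfl⟩ := hb.2 t
    refine ⟨t', fun k => (rr hle' (le_iSup (fun k => hI.functorObj (W k)) k) t').symm.trans (ht k), fun t'' ht'' => hb.1 (htu _ fun k => ?_)⟩
    exact (rr hle' (le_iSup (fun k => hI.functorObj (W k)) k) t'').trans (ht'' k)
  let F : Z.Sheaf (Type u) := ⟨_, hP⟩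
  refine ⟨F, ⟨(fullyFaithfulSheafToPresheaf _ _).preimageIso (NatIso.ofComponents (fun V =>
    (Equiv.ofBijective _ (bijective_res G hi hG (hI.le_functorObj_iff.2 (le_refl ((Opens.map i).obj V.unop)))
      (hI.map_functorObj _).le)).toIso) ?_)⟩⟩
  intro V₁ V₂ g
  ext s
  exact (rr (hI.opensGI.gc.monotone_u ((Opens.map i).map g.unop).le) _ s).trans
    (rr (hI.le_functorObj_iff.2 (le_refl ((Opens.map i).obj V₁.unop))) g.unop.le s).symm

end Groth.Agent.ShOnZH28
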