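import Groth.Agent.Lib.ShOnZH28.Basic

/-! Extension by the empty set from an open subset. -/

universe u
open TopologicalSpace Opposite CategoryTheory Topology Limits

namespace Groth.Agent.ShOnZH28

variable {X : TopCat.{u}} (U : Opens X)

noncomputable def restrictAdj :
    U.sheafRestrict (C := Type u) ⊣ TopCat.Sheaf.pushforward (Type u) U.inclusion' :=
  have hf : IsOpenEmbedding (U.inclusion' : TopCat.of U → X) := U.isOpenEmbedding
  haveI : hf.isOpenMap.functor.IsContinuous (Opens.grothendieckTopology (TopCat.of U)) (Opens.grothendieckTopology X) :=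
    hf.functor_isContinuous
  haveI : (Opens.map U.inclusion').IsContinuous (Opens.grothendieckTopology X) (Opens.grothendieckTopology (TopCat.of U)) :=
    Functor.isContinuous_of_coverPreserving (compatiblePreserving_opens_map _) (coverPreserving_opens_map _)
  hf.isOpenMap.adjunction.sheafPushforwardContinuous (Opens.grothendieckTopology (TopCat.of U)) (Opens.grothendieckTopology X)

variable {U} {L : (TopCat.of U).Sheaf (Type u) ⥤ X.Sheaf (Type u)} (adj : L ⊣ U.sheafRestrict (C := Type u))

include adj in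
theorem nonempty_fullyFaithful : Nonempty L.FullyFaithful := by
  have h1 := pushforward_full (i := U.inclusion') U.isOpenEmbedding.isEmbedding.isInducing
  have h2 := pushforward_faithful (i := U.inclusion') U.isOpenEmbedding.isEmbedding.isInducing
  exact ⟨((⟨adj, restrictAdj U⟩ : Adjunction.Triple L _ _).fullyFaithfulEquiv).symm
    (@Functor.FullyFaithful.ofFullyFaithful _ _ _ _ _ h1 h2)⟩

variable (U) in
def subterminalPre : TopCat.Presheaf (Type u) X :=
  { obj := fun V => ULift.{u} (PLift (V.unop ≤ U))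
    map := fun g => ↾fun h => ⟨⟨g.unop.le.trans h.down.down⟩⟩
    map_id := fun _ => rfl
    map_comp := fun _ _ => rfl }

variable (U) in
def subterminal : X.Sheaf (Type u) :=
  ⟨subterminalPre U, by
    show (subterminalPre U).IsSheaf
    rw [TopCat.Presheaf.isSheaf_iff_isSheafUniqueGluing_types]
    intro ι W sf _
    exact ⟨⟨⟨iSup_le fun k => (sf k).down.down⟩⟩, fun _ => rfl, fun _ _ => rfl⟩⟩

include adj in
theorem isEmpty_stalk (F : (TopCat.of U).Sheaf (Type u)) (x : X) (hx : x ∉ U) :
    IsEmpty ((L.obj F).presheaf.stalk x) := by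
  have hF : ∀ V : Opens U, (U.isOpenEmbedding.isOpenMap.functor.obj V : Opens X) ≤ U := fun V => by
    rintro _ ⟨z, -, rfl⟩; exact z.2
  let t : F ⟶ U.sheafRestrict.obj (subterminal U) :=
    ⟨{ app := fun V => ↾fun _ => (⟨⟨hF V.unop⟩⟩ : ULift.{u} (PLift _))
       naturality := fun _ _ _ => rfl }⟩
  let φ := (adj.homEquiv F (subterminal U)).symm t
  refine ⟨fun g => ?_⟩
  obtain ⟨V, hxV, s, -⟩ := (L.obj F).presheaf.exists_germ_eq g
  exact hx ((φ.1.app (op V) s : ULift.{u} (PLift (V ≤ U))).down.down hxV)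

include adj in
theorem mem_essImage (G : X.Sheaf (Type u)) (hG : ∀ x : X, x ∉ U → IsEmpty (G.presheaf.stalk x)) :
    L.essImage G := by
  obtain ⟨ff⟩ := nonempty_fullyFaithful adj
  have := ff.full
  have := ff.faithful
  let ε := adj.counit.app G
  have hu' : IsIso adj.unit := @Adjunction.unit_isIso_of_L_fully_faithful _ _ _ _ L _ adj ff.full ff.faithful
  have hu : IsIso (adj.unit.app (U.sheafRestrict.obj G)) := @NatIso.isIso_app_of_isIso _ _ _ _ _ _ adj.unit hu' _
  have hε : IsIso (U.sheafRestrict.map ε) :=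
    @IsIso.of_isIso_fac_left _ _ _ _ _ (adj.unit.app (U.sheafRestrict.obj G)) (U.sheafRestrict.map ε) _ hu
      (IsIso.id _) (adj.right_triangle_components G)
  have happ : ∀ V : Opens X, V ≤ U → IsIso (ε.1.app (op V)) := by
    intro V hV
    have e : U.isOpenEmbedding.isOpenMap.functor.obj ((Opens.map U.inclusion').obj V) = V := by
      rw [Opens.functor_map_eq_inf, inf_eq_left.2 hV]
    have h1 : IsIso ((U.sheafRestrict.map ε).1.app (op ((Opens.map U.inclusion').obj V))) := by
      have : IsIso (U.sheafRestrict.map ε).1 := inferInstanceAs (IsIso ((sheafToPresheaf _ _).map (U.sheafRestrict.map ε)))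
      infer_instance
    rw [← e]
    exact h1
  have hst : ∀ x : X, IsIso ((TopCat.Presheaf.stalkFunctor (Type u) x).map ε.1) := by
    intro x
    rw [isIso_iff_bijective]
    by_cases hx : x ∈ U
    · constructor
      · intro a b hab
        obtain ⟨V, hxV, s, rfl⟩ := TopCat.Presheaf.exists_germ_eq (F := (L.obj (U.sheafRestrict.obj G)).presheaf) (a : (L.obj (U.sheafRestrict.obj G)).presheaf.stalk x)
        obtain ⟨W, hxW, t, rfl⟩ := TopCat.Presheaf.exists_germ_eq (F := (L.obj (U.sheafRestrict.obj G)).presheaf) (b : (L.obj (U.sheafRestrict.obj G)).presheaf.stalk x)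
        erw [TopCat.Presheaf.stalkFunctor_map_germ_apply, TopCat.Presheaf.stalkFunctor_map_germ_apply] at hab
        obtain ⟨O, hxO, iV, iW, e⟩ := TopCat.Presheaf.germ_eq _ x hxV hxW _ _ hab
        have := happ (O ⊓ U) inf_le_right
        refine TopCat.Presheaf.germ_ext _ (O ⊓ U) ⟨hxO, hx⟩ (homOfLE inf_le_left ≫ iV) (homOfLE inf_le_left ≫ iW) ?_
        apply ((isIso_iff_bijective _).1 this).1
        have e' := congrArg (G.presheaf.map (homOfLE (inf_le_left : O ⊓ U ≤ O)).op) e
        erw [← CategoryTheory.congr_fun (ε.1.naturality iV.op) s, ← CategoryTheory.congr_fun (ε.1.naturality iW.op) t,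
          ← CategoryTheory.congr_fun (ε.1.naturality (homOfLE (inf_le_left : O ⊓ U ≤ O)).op) _,
          ← CategoryTheory.congr_fun (ε.1.naturality (homOfLE (inf_le_left : O ⊓ U ≤ O)).op) _] at e'
        simp only [op_comp, Functor.map_comp]
        exact e'
      · intro g
        obtain ⟨V, hxV, s, rfl⟩ := TopCat.Presheaf.exists_germ_eq (F := G.presheaf) (g : G.presheaf.stalk x)
        have := happ (V ⊓ U) inf_le_right
        obtain ⟨t, ht⟩ := ((isIso_iff_bijective _).1 this).2 (G.presheaf.map (homOfLE inf_le_left).op s)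
        refine ⟨TopCat.Presheaf.germ (L.obj (U.sheafRestrict.obj G)).presheaf (V ⊓ U) x ⟨hxV, hx⟩ t, ?_⟩
        erw [TopCat.Presheaf.stalkFunctor_map_germ_apply]
        refine (congrArg _ ht).trans ?_
        exact TopCat.Presheaf.germ_res_apply _ _ _ _ _
    · have he : IsEmpty ((TopCat.Presheaf.stalkFunctor (Type u) x).obj G.1) := hG x hx
      exact ⟨fun a => he.elim ((TopCat.Presheaf.stalkFunctor (Type u) x).map ε.1 a), fun g => he.elim g⟩
  have : ∀ x : X, IsIso ((TopCat.Presheaf.stalkFunctor (Type u) x).map ε.1) := hst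
  have : IsIso ε := TopCat.Presheaf.isIso_of_stalkFunctor_map_iso ε
  exact ⟨_, ⟨asIso ε⟩⟩

include adj in
theorem essImage_iff (G : X.Sheaf (Type u)) :
    L.essImage G ↔ ∀ x : X, x ∉ U → IsEmpty (G.presheaf.stalk x) := by
  refine ⟨fun ⟨F, ⟨e⟩⟩ x hx => ?_, mem_essImage adj G⟩
  have := isEmpty_stalk adj F x hx
  exact ⟨fun g => this.elim ((TopCat.Presheaf.stalkFunctor (Type u) x).map e.inv.1 g)⟩

end Groth.Agent.ShOnZH28
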